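import Mathlib
import Cfsg.Agent.Linear.Perfect

/-!
# `SL_n(q)` is generated by three conjugate regular unipotent elements

`u` is upper bidiagonal, `v` a monomial conjugate of it along the chain `0 → r → 1 → ⋯ → r-1`
(`r = n - 1`), and `w = u * T` with `T` the transvection at `(0, r)`.
-/

set_option autoImplicit false

namespace CfsgLib.RegUnipotent

open Matrix Finset

variable {F : Type*} [Field F] {n : ℕ}

/-- The standard basis vector. -/
abbrev ev (i : Fin n) : Fin n → F := Pi.single i 1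

/-- `H` contains the transvection `1 + a φ`. -/
def HasTv (H : Subgroup (Matrix.SpecialLinearGroup (Fin n) F)) (a φ : Fin n → F) : Prop :=
  ∃ g ∈ H, ((g : (Matrix.SpecialLinearGroup (Fin n) F)) : Matrix (Fin n) (Fin n) F) = 1 + vecMulVec a φ

variable {H : Subgroup (Matrix.SpecialLinearGroup (Fin n) F)}

theorem HasTv.conj {a φ a' φ' : Fin n → F} (h : HasTv H a φ) {g : (Matrix.SpecialLinearGroup (Fin n) F)} (hg : g ∈ H)
    (ha : (g : Matrix (Fin n) (Fin n) F) *ᵥ a = a') (hφ : φ' ᵥ* (g : Matrix (Fin n) (Fin n) F) = φ) :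
    HasTv H a' φ' := by
  obtain ⟨t, ht, e⟩ := h
  refine ⟨g * t * g⁻¹, H.mul_mem (H.mul_mem hg ht) (H.inv_mem hg), ?_⟩
  have key : (g : Matrix (Fin n) (Fin n) F) * (t : Matrix (Fin n) (Fin n) F) =
      (1 + vecMulVec a' φ') * (g : Matrix (Fin n) (Fin n) F) := by
    rw [e, Matrix.mul_add, Matrix.add_mul, Matrix.mul_one, Matrix.one_mul, Matrix.mul_vecMulVec, Matrix.vecMulVec_mul, ha, hφ]
  rw [Matrix.SpecialLinearGroup.coe_mul, Matrix.SpecialLinearGroup.coe_mul, key, Matrix.mul_assoc,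
    ← Matrix.SpecialLinearGroup.coe_mul, mul_inv_cancel, Matrix.SpecialLinearGroup.coe_one, Matrix.mul_one]

theorem HasTv.zero (H : Subgroup (Matrix.SpecialLinearGroup (Fin n) F)) (φ : Fin n → F) : HasTv H 0 φ :=
  ⟨1, H.one_mem, by simp⟩

theorem HasTv.add {a b φ : Fin n → F} (h : HasTv H a φ) (h' : HasTv H b φ) (hb : φ ⬝ᵥ b = 0) :
    HasTv H (a + b) φ := by
  obtain ⟨t, ht, e⟩ := h
  obtain ⟨t', ht', e'⟩ := h'
  refine ⟨t * t', H.mul_mem ht ht', ?_⟩
  rw [Matrix.SpecialLinearGroup.coe_mul, e, e']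
  simp only [Matrix.add_mul, Matrix.mul_add, Matrix.one_mul, Matrix.mul_one, Matrix.vecMulVec_mul_vecMulVec, hb,
    zero_smul, Matrix.vecMulVec_zero, add_zero, Matrix.add_vecMulVec]
  abel

theorem HasTv.neg {a φ : Fin n → F} (h : HasTv H a φ) (ha : φ ⬝ᵥ a = 0) : HasTv H (-a) φ := by
  obtain ⟨t, ht, e⟩ := h
  refine ⟨t⁻¹, H.inv_mem ht, ?_⟩
  have key : (t : Matrix (Fin n) (Fin n) F) * (1 + vecMulVec (-a) φ) = 1 := by
    rw [e, Matrix.mul_add, Matrix.mul_one, Matrix.add_mul, Matrix.one_mul, Matrix.vecMulVec_mul_vecMulVec,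
      dotProduct_neg, ha, neg_zero, zero_smul, Matrix.vecMulVec_zero, add_zero, add_assoc, ← Matrix.add_vecMulVec,
      add_neg_cancel, Matrix.zero_vecMulVec, add_zero]
  calc ((t⁻¹ : (Matrix.SpecialLinearGroup (Fin n) F)) : Matrix (Fin n) (Fin n) F)
      = ((t⁻¹ : (Matrix.SpecialLinearGroup (Fin n) F)) : Matrix (Fin n) (Fin n) F) * ((t : Matrix (Fin n) (Fin n) F) * (1 + vecMulVec (-a) φ)) := by
        rw [key, Matrix.mul_one]
    _ = _ := by
        rw [← Matrix.mul_assoc, ← Matrix.SpecialLinearGroup.coe_mul, inv_mul_cancel,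
          Matrix.SpecialLinearGroup.coe_one, Matrix.one_mul]

theorem HasTv.comm {a φ b ψ : Fin n → F} (h : HasTv H a φ) (h' : HasTv H b ψ) (hba : ψ ⬝ᵥ a = 0)
    (haa : φ ⬝ᵥ a = 0) (hbb : ψ ⬝ᵥ b = 0) : HasTv H ((φ ⬝ᵥ b) • a) ψ := by
  obtain ⟨t, ht, e⟩ := h
  obtain ⟨t', ht', e'⟩ := h'
  refine ⟨t * t' * (t' * t)⁻¹, H.mul_mem (H.mul_mem ht ht') (H.inv_mem (H.mul_mem ht' ht)), ?_⟩
  have key : (t : Matrix (Fin n) (Fin n) F) * (t' : Matrix (Fin n) (Fin n) F) =
      (1 + vecMulVec ((φ ⬝ᵥ b) • a) ψ) * ((t' : Matrix (Fin n) (Fin n) F) * (t : Matrix (Fin n) (Fin n) F)) := by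
    rw [e, e']
    simp only [Matrix.add_mul, Matrix.mul_add, Matrix.one_mul, Matrix.mul_one, Matrix.vecMulVec_mul_vecMulVec,
      hba, hbb, zero_smul, Matrix.vecMulVec_zero, add_zero, Matrix.smul_vecMulVec, Matrix.smul_mul, smul_zero,
      Matrix.vecMulVec_smul]
    abel
  rw [Matrix.SpecialLinearGroup.coe_mul, Matrix.SpecialLinearGroup.coe_mul, key, ← Matrix.SpecialLinearGroup.coe_mul,
    Matrix.mul_assoc, ← Matrix.SpecialLinearGroup.coe_mul, mul_inv_cancel, Matrix.SpecialLinearGroup.coe_one, Matrix.mul_one]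

theorem HasTv.smul_swap {a φ : Fin n → F} {k : F} : HasTv H (k • a) φ ↔ HasTv H a (k • φ) := by
  unfold HasTv
  rw [Matrix.smul_vecMulVec, Matrix.vecMulVec_smul]

/-- `H` contains the whole root group of `(a, φ)`. -/
def HasRoot (H : Subgroup (Matrix.SpecialLinearGroup (Fin n) F)) (a φ : Fin n → F) : Prop := ∀ k : F, HasTv H (k • a) φ

/-- The functionals all of whose transvections lie in `H`. -/
def GoodFun (H : Subgroup (Matrix.SpecialLinearGroup (Fin n) F)) (φ : Fin n → F) : Prop := ∀ a, φ ⬝ᵥ a = 0 → HasTv H a φ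

theorem GoodFun.smul {φ : Fin n → F} (h : GoodFun H φ) (c : F) : GoodFun H (c • φ) := by
  intro a ha
  rw [← HasTv.smul_swap]
  by_cases hc : c = 0
  · simp only [hc, zero_smul]; exact HasTv.zero H φ
  · apply h
    rw [smul_dotProduct, smul_eq_mul] at ha
    rw [dotProduct_smul, smul_eq_mul, ha]

theorem GoodFun.mul {φ : Fin n → F} (h : GoodFun H φ) {g : (Matrix.SpecialLinearGroup (Fin n) F)} (hg : g ∈ H) :
    GoodFun H (φ ᵥ* (g : Matrix (Fin n) (Fin n) F)) := by
  intro a ha
  rw [← Matrix.dotProduct_mulVec] at ha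
  refine (h _ ha).conj (H.inv_mem hg) ?_ ?_
  · rw [Matrix.mulVec_mulVec, ← Matrix.SpecialLinearGroup.coe_mul, inv_mul_cancel, Matrix.SpecialLinearGroup.coe_one,
      Matrix.one_mulVec]
  · rw [Matrix.vecMul_vecMul, ← Matrix.SpecialLinearGroup.coe_mul, mul_inv_cancel, Matrix.SpecialLinearGroup.coe_one,
      Matrix.vecMul_one]

theorem GoodFun.add {φ ψ : Fin n → F} (hφ : GoodFun H φ) (hψ : GoodFun H ψ) : GoodFun H (φ + ψ) := by
  by_cases h0 : ψ = 0
  · simpa [h0] using hφ
  by_cases hdep : ∃ a, ψ ⬝ᵥ a = 0 ∧ φ ⬝ᵥ a ≠ 0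
  · obtain ⟨a, ha, ha'⟩ := hdep
    obtain ⟨g, hg, e⟩ := hψ ((φ ⬝ᵥ a)⁻¹ • a) (by rw [dotProduct_smul, ha, smul_zero])
    have := hφ.mul hg
    rwa [e, Matrix.vecMul_add, Matrix.vecMul_one, Matrix.vecMul_vecMulVec, dotProduct_smul, smul_eq_mul,
      inv_mul_cancel₀ ha', one_smul] at this
  · simp only [not_exists, not_and, not_not] at hdep
    obtain ⟨i, hi⟩ : ∃ i, ψ i ≠ 0 := by
      by_contra h
      exact h0 (funext fun i => by simpa using not_exists.1 h i)
    have : φ = (φ i / ψ i) • ψ := by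
      funext j
      have h := hdep (ev j - (ψ j / ψ i) • ev i) (by simp [ev, dotProduct_sub, dotProduct_smul, div_mul_cancel₀ _ hi])
      simp only [ev, dotProduct_sub, dotProduct_smul, dotProduct_single, smul_eq_mul, mul_one] at h
      rw [Pi.smul_apply, smul_eq_mul]
      field_simp at h ⊢
      linear_combination h
    rw [this, show (φ i / ψ i) • ψ + ψ = (φ i / ψ i + 1) • ψ by rw [add_smul, one_smul]]
    exact hψ.smul _

theorem vecMulVec_smul_ev (c : F) (i j : Fin n) : vecMulVec (c • ev i) (ev j) = Matrix.single i j c := by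
  funext k l
  rw [vecMulVec_apply, Matrix.single_apply]
  rcases eq_or_ne k i with hk | hk <;> rcases eq_or_ne l j with hl | hl
  · subst hk hl; simp [ev]
  · subst hk; simp [ev, hl, hl.symm]
  · subst hl; simp [ev, hk, hk.symm]
  · simp [ev, hk, hl, hk.symm]

theorem dot_ix (a b : ℕ) (ha : a < n) (hb : b < n) :
    (ev (⟨a, ha⟩ : Fin n) : Fin n → F) ⬝ᵥ ev (⟨b, hb⟩ : Fin n) = if a = b then 1 else 0 := by
  simp [ev, Pi.single_apply, Fin.ext_iff, eq_comm]

theorem eq_top_of_goodFun (h : ∀ i, GoodFun H (ev i)) : H = ⊤ := by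
  apply CfsgLib.Linear.sl_eq_top_of_transvections
  intro i j hij c
  obtain ⟨g, hg, e⟩ := h j (c • ev i) (by simp [ev, hij.symm])
  convert hg using 1
  apply Subtype.ext
  rw [e, Matrix.SpecialLinearGroup.transvection_coe, vecMulVec_smul_ev]

/-! ### The generators -/

section Gens

variable (hn : 3 ≤ n)

/-- Index `k`. -/
def ix (k : ℕ) (hk : k < n) : Fin n := ⟨k, hk⟩

/-- The entries above the diagonal of `u`. -/
def dCoeff (ω : F) (i : Fin n) : F := if (i : ℕ) + 2 = n then ω else 1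

/-- `u`: upper bidiagonal. -/
def uMat (ω : F) : (Matrix.SpecialLinearGroup (Fin n) F) :=
  ⟨Matrix.of fun i j => if j = i then 1 else if (j : ℕ) = i + 1 then dCoeff ω i else 0, by
    rw [Matrix.det_of_upperTriangular]
    · simp
    · intro i j hij
      have hij' : j.1 < i.1 := hij
      have h1 : j ≠ i := fun h => by rw [h] at hij'; exact lt_irrefl _ hij'
      simp [h1, show ¬ (j.1 = i.1 + 1) by omega]⟩

theorem uMat_mulVec_zero (hn0 : 0 < n) (ω : F) :
    ((uMat ω : (Matrix.SpecialLinearGroup (Fin n) F)) : Matrix (Fin n) (Fin n) F) *ᵥ ev (ix 0 (by omega : 0 < n)) = ev (ix 0 (by omega)) := by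
  funext i
  rw [Matrix.mulVec_single_one]
  simp only [uMat, Matrix.col_apply, Matrix.of_apply, ev, Pi.single_apply, ix, Fin.ext_iff]
  split_ifs <;> first | rfl | (exfalso; omega)

theorem uMat_mulVec_succ (ω : F) (k : ℕ) (hk : k + 1 < n) :
    ((uMat ω : (Matrix.SpecialLinearGroup (Fin n) F)) : Matrix (Fin n) (Fin n) F) *ᵥ ev (ix (k + 1) hk) =
      ev (ix (k + 1) hk) + dCoeff ω (ix k (by omega : k < n)) • ev (ix k (by omega)) := by
  funext i
  rw [Matrix.mulVec_single_one]
  simp only [uMat, Matrix.col_apply, Matrix.of_apply, ev, Pi.add_apply, Pi.smul_apply, Pi.single_apply, ix,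
    Fin.ext_iff, smul_eq_mul, dCoeff]
  split_ifs <;> (try (exfalso; omega)) <;> simp_all <;> (try omega) <;> intros <;> omega

theorem uMat_vecMul (ω : F) (k : ℕ) (hk : k + 1 < n) :
    ev (ix k (by omega : k < n)) ᵥ* ((uMat ω : (Matrix.SpecialLinearGroup (Fin n) F)) : Matrix (Fin n) (Fin n) F) =
      ev (ix k (by omega)) + dCoeff ω (ix k (by omega : k < n)) • ev (ix (k + 1) hk) := by
  funext i
  rw [Matrix.single_one_vecMul]
  simp only [uMat, Matrix.row_apply, Matrix.of_apply, ev, Pi.add_apply, Pi.smul_apply, Pi.single_apply, ix,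
    Fin.ext_iff, smul_eq_mul, dCoeff]
  split_ifs <;> (try (exfalso; omega)) <;> simp_all <;> (try omega) <;> intros <;> omega

theorem uMat_vecMul_last (hn0 : 0 < n) (ω : F) :
    ev (ix (n - 1) (by omega : n - 1 < n)) ᵥ* ((uMat ω : (Matrix.SpecialLinearGroup (Fin n) F)) : Matrix (Fin n) (Fin n) F) =
      ev (ix (n - 1) (by omega)) := by
  funext i
  rw [Matrix.single_one_vecMul]
  simp only [uMat, Matrix.row_apply, Matrix.of_apply, ev, Pi.single_apply, ix, Fin.ext_iff]
  have := i.isLt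
  split_ifs <;> (try (exfalso; omega)) <;> simp_all <;> (try omega) <;> intros <;> omega

include hn

/-- The reordering `n-1 ↦ 0, n-2 ↦ n-1, i ↦ n-2-i`. -/
noncomputable def chainPerm : Equiv.Perm (Fin n) :=
  Equiv.ofBijective
    (fun i => if (i : ℕ) = n - 1 then ix 0 (by omega) else if (i : ℕ) = n - 2 then ix (n - 1) (by omega)
      else ix (n - 2 - i) (by omega))
    (Finite.injective_iff_bijective.1 (by
      intro i j h
      have := i.isLt
      have := j.isLt
      simp only at h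
      apply Fin.ext
      split_ifs at h <;> simp only [ix, Fin.mk.injEq] at h <;> omega))

theorem chainPerm_apply (i : Fin n) :
    ((chainPerm hn i : Fin n) : ℕ) =
      if (i : ℕ) = n - 1 then 0 else if (i : ℕ) = n - 2 then n - 1 else n - 2 - i := by
  simp only [chainPerm, Equiv.ofBijective_apply]
  split_ifs <;> rfl

theorem chainPerm_ix (k : ℕ) (hk : k < n) :
    ((chainPerm hn (ix k hk) : Fin n) : ℕ) = if k = n - 1 then 0 else if k = n - 2 then n - 1 else n - 2 - k :=
  chainPerm_apply hn _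

/-- The sign correction of the monomial matrix. -/
noncomputable def monScale (i : Fin n) : F :=
  if (i : ℕ) = 0 then ((Equiv.Perm.sign (chainPerm hn).symm : ℤ) : F) else 1

theorem monScale_ne_zero (i : Fin n) : (monScale hn i : F) ≠ 0 := by
  unfold monScale
  split_ifs
  · rcases Int.units_eq_one_or (Equiv.Perm.sign (chainPerm hn).symm) with h | h <;> simp [h]
  · exact one_ne_zero

/-- The monomial matrix `e_i ↦ ± e_{π i}`. -/
noncomputable def monMat : (Matrix.SpecialLinearGroup (Fin n) F) :=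
  ⟨(Matrix.diagonal (monScale (F := F) hn)).submatrix (chainPerm hn).symm id, by
    rw [Matrix.det_permute, Matrix.det_diagonal, Finset.prod_eq_single (ix 0 (by omega : 0 < n))]
    · simp only [monScale, ix, if_true]
      rcases Int.units_eq_one_or (Equiv.Perm.sign (chainPerm hn).symm) with h | h <;> simp [h]
    · intro b _ hb
      exact if_neg fun h => hb (Fin.ext h)
    · simp⟩

theorem monMat_mulVec (i : Fin n) :
    ((monMat (F := F) hn : (Matrix.SpecialLinearGroup (Fin n) F)) : Matrix (Fin n) (Fin n) F) *ᵥ ev i = (monScale hn i : F) • ev (chainPerm hn i) := by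
  funext j
  rw [Matrix.mulVec_single_one]
  simp only [monMat, Matrix.col_apply, Matrix.submatrix_apply, id, ev, Pi.smul_apply, Pi.single_apply,
    Matrix.diagonal_apply, Equiv.symm_apply_eq, smul_eq_mul]
  split_ifs with h <;> simp [h]

/-- `v`, the conjugate of `u` along the chain. -/
noncomputable def vMat (ω : F) : (Matrix.SpecialLinearGroup (Fin n) F) := monMat (F := F) hn * uMat ω * (monMat (F := F) hn)⁻¹

theorem vMat_mulVec (ω : F) (i : Fin n) :
    ((vMat hn ω : (Matrix.SpecialLinearGroup (Fin n) F)) : Matrix (Fin n) (Fin n) F) *ᵥ ((monScale hn i : F) • ev (chainPerm hn i)) =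
      ((monMat (F := F) hn : (Matrix.SpecialLinearGroup (Fin n) F)) : Matrix (Fin n) (Fin n) F) *ᵥ (((uMat ω : (Matrix.SpecialLinearGroup (Fin n) F)) : Matrix (Fin n) (Fin n) F) *ᵥ ev i) := by
  rw [← monMat_mulVec, Matrix.mulVec_mulVec, Matrix.mulVec_mulVec, ← Matrix.SpecialLinearGroup.coe_mul,
    ← Matrix.SpecialLinearGroup.coe_mul, vMat, inv_mul_cancel_right]

theorem vMat_mulVec_zero (ω : F) :
    ((vMat hn ω : (Matrix.SpecialLinearGroup (Fin n) F)) : Matrix (Fin n) (Fin n) F) *ᵥ ev (ix 0 (by omega : 0 < n)) =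
      ev (ix 0 (by omega)) + ω • ev (ix (n - 1) (by omega : n - 1 < n)) := by
  have h := vMat_mulVec hn ω (ix (n - 2 + 1) (by omega))
  rw [uMat_mulVec_succ] at h
  simp only [Matrix.mulVec_add, Matrix.mulVec_smul, monMat_mulVec] at h
  have e1 : chainPerm hn (ix (n - 2 + 1) (by omega)) = ix 0 (by omega) :=
    Fin.ext (by rw [chainPerm_ix]; simp only [ix]; split_ifs <;> omega)
  have e2 : chainPerm hn (ix (n - 2) (by omega)) = ix (n - 1) (by omega) :=
    Fin.ext (by rw [chainPerm_ix]; simp only [ix]; split_ifs <;> omega)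
  rw [e1, e2, monScale, if_neg (by simp [ix]), one_smul, monScale, if_neg (by simp [ix]; omega), one_smul,
    dCoeff, if_pos (by simp [ix]; omega)] at h
  simpa using h

theorem vMat_mulVec_last (ω : F) : ∃ c : F, (c = 1 ∨ c = -1) ∧
    ((vMat hn ω : (Matrix.SpecialLinearGroup (Fin n) F)) : Matrix (Fin n) (Fin n) F) *ᵥ ev (ix (n - 1) (by omega : n - 1 < n)) =
      ev (ix (n - 1) (by omega)) + c • ev (ix 1 (by omega : 1 < n)) := by
  refine ⟨monScale hn (ix (n - 3) (by omega)), ?_, ?_⟩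
  · unfold monScale
    split_ifs
    · rcases Int.units_eq_one_or (Equiv.Perm.sign (chainPerm hn).symm) with h | h <;> simp [h]
    · exact Or.inl rfl
  have h := vMat_mulVec hn ω (ix (n - 3 + 1) (by omega))
  rw [uMat_mulVec_succ] at h
  simp only [Matrix.mulVec_add, Matrix.mulVec_smul, monMat_mulVec] at h
  have e1 : chainPerm hn (ix (n - 3 + 1) (by omega)) = ix (n - 1) (by omega) :=
    Fin.ext (by rw [chainPerm_ix]; simp only [ix]; split_ifs <;> omega)
  have e2 : chainPerm hn (ix (n - 3) (by omega)) = ix 1 (by omega) :=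
    Fin.ext (by rw [chainPerm_ix]; simp only [ix]; split_ifs <;> omega)
  rw [e1, e2, show monScale (F := F) hn (ix (n - 3 + 1) (by omega)) = 1 from if_neg (by simp [ix]), one_smul,
    dCoeff, if_neg (by simp [ix]; omega)] at h
  simpa using h

theorem vMat_mulVec_step (ω : F) (k : ℕ) (hk : 1 ≤ k) (hk' : k + 2 < n) : ∃ c : F, c ≠ 0 ∧
    ((vMat hn ω : (Matrix.SpecialLinearGroup (Fin n) F)) : Matrix (Fin n) (Fin n) F) *ᵥ ev (ix k (by omega : k < n)) =
      ev (ix k (by omega)) + c • ev (ix (k + 1) (by omega : k + 1 < n)) := by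
  refine ⟨monScale hn (ix (n - 3 - k) (by omega)), monScale_ne_zero _ _, ?_⟩
  have h := vMat_mulVec hn ω (ix (n - 3 - k + 1) (by omega))
  rw [uMat_mulVec_succ] at h
  simp only [Matrix.mulVec_add, Matrix.mulVec_smul, monMat_mulVec] at h
  have e1 : chainPerm hn (ix (n - 3 - k + 1) (by omega)) = ix k (by omega) :=
    Fin.ext (by rw [chainPerm_ix]; simp only [ix]; split_ifs <;> omega)
  have e2 : chainPerm hn (ix (n - 3 - k) (by omega)) = ix (k + 1) (by omega) :=
    Fin.ext (by rw [chainPerm_ix]; simp only [ix]; split_ifs <;> omega)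
  rw [e1, e2, show monScale (F := F) hn (ix (n - 3 - k + 1) (by omega)) = 1 from if_neg (by simp [ix]), one_smul,
    dCoeff, if_neg (by simp [ix]; omega)] at h
  simpa using h

theorem vMat_mulVec_fix (ω : F) :
    ((vMat hn ω : (Matrix.SpecialLinearGroup (Fin n) F)) : Matrix (Fin n) (Fin n) F) *ᵥ ev (ix (n - 2) (by omega : n - 2 < n)) =
      ev (ix (n - 2) (by omega)) := by
  have h := vMat_mulVec hn ω (ix 0 (by omega))
  rw [uMat_mulVec_zero (by omega), monMat_mulVec] at h
  have e1 : chainPerm hn (ix 0 (by omega)) = ix (n - 2) (by omega) :=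
    Fin.ext (by rw [chainPerm_ix]; simp only [ix]; split_ifs <;> omega)
  rw [e1, Matrix.mulVec_smul] at h
  exact smul_right_injective _ (monScale_ne_zero hn _) h

/-- Two functionals agree if they agree on the basis. -/
theorem ext_ev {φ ψ : Fin n → F} (h : ∀ k (hk : k < n), φ ⬝ᵥ ev (ix k hk) = ψ ⬝ᵥ ev (ix k hk)) : φ = ψ := by
  funext i
  simpa [ev, ix] using h i.1 i.2

theorem vMat_vecMul_zero (ω : F) :
    ev (ix 0 (by omega : 0 < n)) ᵥ* ((vMat hn ω : Matrix.SpecialLinearGroup (Fin n) F) : Matrix (Fin n) (Fin n) F) = ev (ix 0 (by omega)) := by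
  apply ext_ev hn
  intro k hk
  rw [← Matrix.dotProduct_mulVec]
  obtain ⟨c, -, hc⟩ := vMat_mulVec_last hn ω
  rcases Nat.eq_zero_or_pos k with rfl | h1
  · rw [vMat_mulVec_zero hn]; simp only [ix, dotProduct_add, dotProduct_smul, dot_ix]
    simp [show 0 ≠ n - 1 by omega]
  rcases (show k = n - 1 ∨ k = n - 2 ∨ k + 2 < n by omega) with rfl | rfl | h2
  · rw [hc]; simp only [ix, dotProduct_add, dotProduct_smul, dot_ix]
    simp
  · rw [vMat_mulVec_fix hn]
  · obtain ⟨d, -, hd⟩ := vMat_mulVec_step hn ω k h1 h2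
    rw [hd]; simp only [ix, dotProduct_add, dotProduct_smul, dot_ix]
    simp [show 0 ≠ k + 1 by omega]

theorem vMat_vecMul_last (ω : F) :
    ev (ix (n - 1) (by omega : n - 1 < n)) ᵥ* ((vMat hn ω : Matrix.SpecialLinearGroup (Fin n) F) : Matrix (Fin n) (Fin n) F) =
      ev (ix (n - 1) (by omega)) + ω • ev (ix 0 (by omega : 0 < n)) := by
  apply ext_ev hn
  intro k hk
  rw [← Matrix.dotProduct_mulVec]
  obtain ⟨c, -, hc⟩ := vMat_mulVec_last hn ω
  rcases Nat.eq_zero_or_pos k with rfl | h1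
  · rw [vMat_mulVec_zero hn]; simp only [ix, dotProduct_add, add_dotProduct, dotProduct_smul, smul_dotProduct, dot_ix]

  rcases (show k = n - 1 ∨ k = n - 2 ∨ k + 2 < n by omega) with rfl | rfl | h2
  · rw [hc]; simp only [ix, dotProduct_add, add_dotProduct, dotProduct_smul, smul_dotProduct, dot_ix]
    simp [show 0 ≠ n - 1 by omega, show n - 1 ≠ 1 by omega]
  · rw [vMat_mulVec_fix hn]; simp only [ix, add_dotProduct, smul_dotProduct, dot_ix]
    simp [show 0 ≠ n - 2 by omega, show n - 1 ≠ n - 2 by omega]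
  · obtain ⟨d, -, hd⟩ := vMat_mulVec_step hn ω k h1 h2
    rw [hd]; simp only [ix, dotProduct_add, add_dotProduct, dotProduct_smul, smul_dotProduct, dot_ix]
    simp [show 0 ≠ k by omega, show n - 1 ≠ k by omega, show n - 1 ≠ k + 1 by omega]

theorem generated (ω τ : F) (hω : ω ≠ 0) (hτ : τ = ω⁻¹)
    (hgen : ∀ t : F, t ≠ 0 → ∃ k : ℕ, t = ω ^ k) (H : Subgroup (Matrix.SpecialLinearGroup (Fin n) F))
    (hu : uMat ω ∈ H) (hv : vMat hn ω ∈ H)
    (hT0 : HasTv H (τ • ev (ix 0 (by omega : 0 < n))) (ev (ix (n - 1) (by omega : n - 1 < n)))) : H = ⊤ := by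
  set o := ix 0 (by omega : 0 < n) with ho
  set i1 := ix 1 (by omega : 1 < n) with hi1
  set r := ix (n - 1) (by omega : n - 1 < n) with hr
  have h01 : o ≠ i1 := by simp [ho, hi1, ix]
  have h0r : o ≠ r := by simp [ho, hr, ix]; omega
  have h1r : i1 ≠ r := by simp [hr, hi1, ix]; omega
  obtain ⟨c2, hc2, hve⟩ := vMat_mulVec_last hn ω
  have hc0 : c2 ≠ 0 := by rcases hc2 with rfl | rfl <;> simp
  -- the opposite transvection
  have hT : HasTv H (τ • ev o) (ev r) := hT0
  have hS : HasTv H (τ • ev o + ev r) (ev r + (-ω) • ev o) := by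
    refine hT.conj hv ?_ ?_
    · rw [Matrix.mulVec_smul, vMat_mulVec_zero hn, smul_add, smul_smul, hτ, inv_mul_cancel₀ hω, one_smul]
    · rw [Matrix.add_vecMul, Matrix.smul_vecMul, vMat_vecMul_zero hn, vMat_vecMul_last hn]
      module
  obtain ⟨gN, hgN, eN⟩ := HasTv.neg hT (by simp [ev, h0r.symm, dotProduct_smul])
  have hY : HasTv H ((-ω) • ev r) (ev o) := by
    rw [HasTv.smul_swap]
    refine hS.conj hgN ?_ ?_
    · rw [eN, Matrix.add_mulVec, Matrix.one_mulVec, Matrix.vecMulVec_mulVec]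
      simp [ev, h0r, h0r.symm, dotProduct_add, dotProduct_smul]
    · rw [eN, Matrix.vecMul_add, Matrix.vecMul_one, Matrix.vecMul_vecMulVec]
      simp only [ev, smul_dotProduct, dotProduct_neg, dotProduct_smul, single_one_dotProduct, Pi.single_eq_same,
        smul_eq_mul, mul_one, hτ]
      rw [show -(ω⁻¹ * -ω) = (1 : F) by field_simp, one_smul, add_comm]
  obtain ⟨gY, hgY, eY⟩ := hY
  have hY : HasTv H ((-ω) • ev r) (ev o) := ⟨gY, hgY, eY⟩
  -- g = Y v fixes the functional r
  set g := gY * vMat hn ω with hg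
  have hgH : g ∈ H := H.mul_mem hgY hv
  have hgr : ev r ᵥ* ((g : (Matrix.SpecialLinearGroup (Fin n) F)) : Matrix (Fin n) (Fin n) F) = ev r := by
    rw [hg, Matrix.SpecialLinearGroup.coe_mul, ← Matrix.vecMul_vecMul, eY, Matrix.vecMul_add, Matrix.vecMul_one,
      Matrix.vecMul_vecMulVec, Matrix.add_vecMul, Matrix.smul_vecMul, vMat_vecMul_zero hn, vMat_vecMul_last hn]
    simp only [ev, dotProduct_smul, single_one_dotProduct, Pi.single_eq_same, smul_eq_mul, mul_one]
    module
  -- the element at (1, r), via v²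
  have h1 : HasTv H (c2 • ev i1) (ev r) := by
    have h2 : HasTv H (τ • ev o + (2 : F) • ev r + c2 • ev i1) (ev r + (-2 * ω) • ev o) := by
      refine hS.conj hv ?_ ?_
      · rw [Matrix.mulVec_add, Matrix.mulVec_smul, vMat_mulVec_zero hn, hve, smul_add, smul_smul, hτ,
          inv_mul_cancel₀ hω, one_smul]
        module
      · rw [Matrix.add_vecMul, Matrix.smul_vecMul, vMat_vecMul_zero hn, vMat_vecMul_last hn]
        module
    have h3 : HasTv H (τ • ev o + ev r + c2 • ev i1) (ev r + (-ω) • ev o) := by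
      refine h2.conj hgY ?_ ?_
      · rw [eY, Matrix.add_mulVec, Matrix.one_mulVec, Matrix.vecMulVec_mulVec]
        simp only [ev, dotProduct_add, dotProduct_smul, single_one_dotProduct, Pi.single_eq_same,
          Pi.single_eq_of_ne h0r, Pi.single_eq_of_ne h01, smul_eq_mul, mul_one, mul_zero, add_zero, op_smul_eq_smul,
          smul_smul, hτ]
        rw [show ω⁻¹ * -ω = (-1 : F) by field_simp]
        module
      · rw [eY, Matrix.vecMul_add, Matrix.vecMul_one, Matrix.vecMul_vecMulVec]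
        simp only [ev, add_dotProduct, dotProduct_smul, smul_dotProduct, single_one_dotProduct, Pi.single_eq_same,
          Pi.single_eq_of_ne h0r, smul_eq_mul, mul_one, mul_zero, add_zero]
        module
    have h4 : HasTv H (τ • ev o + c2 • ev i1) (ev r) := by
      refine h3.conj hgY ?_ ?_
      · rw [eY, Matrix.add_mulVec, Matrix.one_mulVec, Matrix.vecMulVec_mulVec]
        simp only [ev, dotProduct_add, dotProduct_smul, single_one_dotProduct, Pi.single_eq_same,
          Pi.single_eq_of_ne h0r, Pi.single_eq_of_ne h01, smul_eq_mul, mul_one, mul_zero, add_zero, op_smul_eq_smul,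
          smul_smul, hτ]
        rw [show ω⁻¹ * -ω = (-1 : F) by field_simp]
        module
      · rw [eY, Matrix.vecMul_add, Matrix.vecMul_one, Matrix.vecMul_vecMulVec]
        simp only [ev, dotProduct_smul, single_one_dotProduct, Pi.single_eq_same, smul_eq_mul, mul_one]
    have h5 := h4.add (hT.neg (by simp [ev, h0r.symm, dotProduct_smul]))
      (by simp [ev, h0r.symm, dotProduct_neg, dotProduct_smul])
    convert h5 using 1
    module
  -- the scalars at (1, 0)
  have hK0 : HasTv H ((-ω * c2) • ev i1) (ev o) := by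
    have := h1.comm hY (by simp [ev, h01, dotProduct_smul]) (by simp [ev, h1r.symm, dotProduct_smul])
      (by simp [ev, h0r, dotProduct_smul])
    convert this using 1
    simp [ev, dotProduct_smul, smul_smul]
  let ψ := ev o ᵥ* ((((uMat ω)⁻¹ : (Matrix.SpecialLinearGroup (Fin n) F))) : Matrix (Fin n) (Fin n) F)
  have hψu : ψ ᵥ* ((uMat ω : (Matrix.SpecialLinearGroup (Fin n) F)) : Matrix (Fin n) (Fin n) F) = ev o := by
    rw [Matrix.vecMul_vecMul, ← Matrix.SpecialLinearGroup.coe_mul, inv_mul_cancel,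
      Matrix.SpecialLinearGroup.coe_one, Matrix.vecMul_one]
  have hψdot : ∀ x, ψ ⬝ᵥ (((uMat ω : (Matrix.SpecialLinearGroup (Fin n) F)) : Matrix (Fin n) (Fin n) F) *ᵥ x) = ev o ⬝ᵥ x := fun x => by
    rw [Matrix.dotProduct_mulVec, hψu]
  have hψ0 : ψ ⬝ᵥ ev o = 1 := by
    have := hψdot (ev o)
    rw [ho, uMat_mulVec_zero (by omega)] at this
    rw [ho, this]; simp [ev]
  have hd0 : ∃ d : F, d = dCoeff ω (ix 0 (by omega : 0 < n)) := ⟨_, rfl⟩
  obtain ⟨d, hd⟩ := hd0
  have hd1 : d = 1 := by rw [hd, dCoeff, if_neg (by simp [ix]; omega)]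
  have hψ1 : ψ ⬝ᵥ ev i1 = -1 := by
    have := hψdot (ev i1)
    rw [hi1, show ix 1 (by omega : 1 < n) = ix (0 + 1) (by omega : 0 + 1 < n) from rfl, uMat_mulVec_succ, ← hd, hd1,
      one_smul, dotProduct_add, ← ho, hψ0] at this
    have h0 : ev (F := F) o ⬝ᵥ ev (ix (0 + 1) (by omega : 0 + 1 < n)) = 0 := by simp [ev, ho, ix, Fin.ext_iff]
    rw [h0] at this
    exact eq_neg_of_add_eq_zero_left this
  have hYu := hY.conj hu rfl hψu
  have hstep : ∀ k, HasTv H (k • ev i1) (ev o) → HasTv H ((k * (ω * c2)) • ev i1) (ev o) := by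
    intro k hk
    set a := ((uMat ω : (Matrix.SpecialLinearGroup (Fin n) F)) : Matrix (Fin n) (Fin n) F) *ᵥ ((-ω) • ev r) with ha
    have hr' : r = ix (n - 2 + 1) (by omega) := Fin.ext (by simp only [hr, ix]; omega)
    have hea : a = (-ω) • (ev r + dCoeff ω (ix (n - 2) (by omega : n - 2 < n)) • ev (ix (n - 2) (by omega))) := by
      rw [ha, Matrix.mulVec_smul]
      congr 1
      rw [hr', uMat_mulVec_succ]
    have hn2 : ix (n - 2) (by omega : n - 2 < n) ≠ r := by simp [hr, ix]; omega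
    have hn20 : ix (n - 2) (by omega : n - 2 < n) ≠ o := by simp [ho, ix]; omega
    have hoa : ev o ⬝ᵥ a = 0 := by simp [hea, ev, h0r, hn20.symm, dotProduct_smul, dotProduct_add]
    have hra : ev r ⬝ᵥ a = -ω := by simp [hea, ev, hn2.symm, dotProduct_smul, dotProduct_add]
    have hψa : ψ ⬝ᵥ a = 0 := by
      rw [ha, hψdot]; simp [ev, h0r, dotProduct_smul]
    have h5 := hYu.comm hk hoa hψa (by simp [ev, h01, dotProduct_smul])
    have h6 := h1.comm h5 (by simp [ev, h01, dotProduct_smul]) (by simp [ev, h1r.symm, dotProduct_smul])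
      (by rw [dotProduct_smul, hoa, smul_zero])
    convert h6 using 1
    rw [smul_smul, dotProduct_smul, dotProduct_smul, hra, hψ1, smul_eq_mul, smul_eq_mul]
    congr 1; ring
  have hneg : ∀ k : F, HasTv H (k • ev i1) (ev o) → HasTv H ((-k) • ev i1) (ev o) := fun k hk => by
    rw [neg_smul]; exact hk.neg (by simp [ev, h01, dotProduct_smul])
  have hpow : ∀ m : ℕ, HasTv H (ω ^ (m + 1) • ev i1) (ev o) := by
    intro m
    induction m with
    | zero =>
      rcases hc2 with rfl | rfl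
      · simpa using hneg _ hK0
      · simpa using hK0
    | succ m ih =>
      have := hstep _ ih
      rcases hc2 with rfl | rfl
      · simpa [pow_succ, mul_assoc] using this
      · simpa [pow_succ, mul_assoc] using hneg _ this
  have hR10 : HasRoot H (ev i1) (ev o) := by
    intro k
    by_cases hk : k = 0
    · rw [hk, zero_smul]; exact HasTv.zero H _
    · obtain ⟨m, hm⟩ := hgen (k / ω) (div_ne_zero hk hω)
      rw [show k = ω ^ (m + 1) by rw [pow_succ, ← hm, div_mul_cancel₀ _ hω]]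
      exact hpow m
  -- the column r
  have hR1r : HasRoot H (ev i1) (ev r) := by
    intro k
    have := (hR10 (k * ω)).comm hT (by simp [ev, h1r.symm, dotProduct_smul]) (by simp [ev, h01, dotProduct_smul])
      (by simp [ev, h0r.symm, dotProduct_smul])
    convert this using 1
    simp [ev, dotProduct_smul, smul_smul, hτ, ← mul_assoc, mul_comm _ k, mul_inv_cancel₀ hω, hω]
  have hR0r : HasRoot H (ev o) (ev r) := by
    intro k
    have e1 := (hR1r k).conj hu rfl (uMat_vecMul_last hn (by omega) ω)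
    have e2 := e1.add (hR1r (-k)) (by rw [← hr]; simp [ev, h1r.symm, dotProduct_smul])
    convert e2 using 1
    rw [Matrix.mulVec_smul, show i1 = ix (0 + 1) (by omega : 0 + 1 < n) from rfl, uMat_mulVec_succ, ← hd, hd1, one_smul]
    module
  have hcol : ∀ k (hk : k + 1 < n), HasRoot H (ev (ix k (by omega))) (ev r) := by
    intro k
    induction k with
    | zero => intro _; exact hR0r
    | succ j ih =>
      intro hj
      rcases Nat.eq_zero_or_pos j with rfl | hj1
      · exact hR1r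
      obtain ⟨c, hc, hstepv⟩ := vMat_mulVec_step hn ω j hj1 (by omega)
      intro k
      have e1 := (ih (by omega) (k / c)).conj hgH rfl hgr
      have e2 := e1.add (ih (by omega) (-(k / c))) (by rw [dotProduct_smul]; simp only [hr, ix, dot_ix]; rw [if_neg (by omega), smul_zero])
      convert e2 using 1
      rw [hg, Matrix.SpecialLinearGroup.coe_mul, ← Matrix.mulVec_mulVec, Matrix.mulVec_smul, hstepv, eY,
        Matrix.add_mulVec, Matrix.one_mulVec, Matrix.vecMulVec_mulVec]
      have hz : ev o ⬝ᵥ ((k / c) • (ev (ix j (by omega)) + c • ev (ix (j + 1) (by omega)))) = (0 : F) := by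
        simp only [ho, ix, dotProduct_smul, dotProduct_add, dot_ix]
        simp [show (0 : ℕ) ≠ j by omega]
      rw [hz, op_smul_eq_smul, zero_smul, add_zero, smul_add, smul_smul, div_mul_cancel₀ _ hc]
      module
  have hgood : GoodFun H (ev r) := by
    intro a ha
    have key : ∀ s : Finset (Fin n), HasTv H (∑ i ∈ s, a i • ev i) (ev r) := by
      intro s
      induction s using Finset.induction_on with
      | empty => rw [Finset.sum_empty]; exact HasTv.zero H _
      | insert i s his ih =>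
        rw [Finset.sum_insert his, add_comm]
        by_cases hir : i = r
        · rw [hir, show a r = 0 by simpa [ev] using ha, zero_smul, add_zero]; exact ih
        · have hlt : i.1 + 1 < n := by
            have h := i.isLt
            have : i.1 ≠ n - 1 := fun h => hir (Fin.ext h)
            omega
          refine ih.add (hcol i.1 hlt (a i)) ?_
          simp [ev, Ne.symm hir, dotProduct_smul]
    convert key univ using 1
    funext j
    simp [ev, Finset.sum_apply, Pi.single_apply]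
  have hgood0 : GoodFun H (ev o) := by
    have h := ((hgood.mul hv).add (hgood.smul (-1))).smul ω⁻¹
    rw [vMat_vecMul_last hn] at h
    convert h using 1
    rw [show (ev r + ω • ev o + (-1 : F) • ev r) = ω • ev o by module, smul_smul, inv_mul_cancel₀ hω, one_smul]
  apply eq_top_of_goodFun
  intro i
  obtain ⟨k, hk⟩ := i
  induction k with
  | zero => exact hgood0
  | succ j ih =>
    have h := ((ih (by omega)).mul hu).add ((ih (by omega)).smul (-1))
    have e : (ev (⟨j, by omega⟩ : Fin n) : Fin n → F) ᵥ* ((uMat ω : (Matrix.SpecialLinearGroup (Fin n) F)) : Matrix (Fin n) (Fin n) F) = _ := uMat_vecMul ω j hk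
    rw [e] at h
    set δ := dCoeff ω (ix j (by omega : j < n)) with hδ
    have hδ0 : δ ≠ 0 := by
      rw [hδ, dCoeff]; split_ifs
      · exact hω
      · exact one_ne_zero
    have h2 := h.smul δ⁻¹
    convert h2 using 1
    simp only [ix]
    rw [show (ev (⟨j, by omega⟩ : Fin n) + δ • ev (⟨j + 1, hk⟩ : Fin n) + (-1 : F) • ev (⟨j, by omega⟩ : Fin n)) =
      δ • (ev (⟨j + 1, hk⟩ : Fin n) : Fin n → F) by module, smul_smul, inv_mul_cancel₀ hδ0, one_smul]

theorem uMat_sub_one_pow (ω : F) (hω : ω ≠ 0) (k : ℕ) (i j : Fin n) :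
    ((j : ℕ) ≠ i + k → ((((uMat ω : (Matrix.SpecialLinearGroup (Fin n) F)) : Matrix (Fin n) (Fin n) F) - 1) ^ k) i j = 0) ∧
    ((j : ℕ) = i + k → ((((uMat ω : (Matrix.SpecialLinearGroup (Fin n) F)) : Matrix (Fin n) (Fin n) F) - 1) ^ k) i j ≠ 0) := by
  induction k generalizing j with
  | zero =>
    constructor
    · intro h; simp [Matrix.one_apply, show i ≠ j by intro e; subst e; exact h rfl]
    · intro h; simp [show i = j from Fin.ext (by omega)]
  | succ k ih =>
    have hN : ∀ a b : Fin n, (((uMat ω : (Matrix.SpecialLinearGroup (Fin n) F)) : Matrix (Fin n) (Fin n) F) - 1) a b =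
        if (b : ℕ) = a + 1 then dCoeff ω a else 0 := by
      intro a b
      simp only [uMat, Matrix.sub_apply, Matrix.of_apply, Matrix.one_apply, Fin.ext_iff]
      split_ifs <;> first | omega | simp
    rw [pow_succ, Matrix.mul_apply]
    constructor
    · intro h
      refine Finset.sum_eq_zero fun b _ => ?_
      by_cases hb : (b : ℕ) = i + k
      · rw [hN, if_neg (by omega), mul_zero]
      · rw [(ih b).1 hb, zero_mul]
    · intro h
      rw [Finset.sum_eq_single (⟨i + k, by omega⟩ : Fin n)]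
      · refine mul_ne_zero ((ih _).2 rfl) ?_
        rw [hN, if_pos (by simp; omega), dCoeff]
        split_ifs
        · exact hω
        · exact one_ne_zero
      · intro b _ hb
        rw [(ih b).1 (fun e => hb (Fin.ext e)), zero_mul]
      · simp

/-- Three conjugate regular unipotent elements generate `SL_n(F)`. -/
theorem exists_three [Fintype F] :
    ∃ u g h : (Matrix.SpecialLinearGroup (Fin n) F),
      (IsNilpotent ((u : Matrix (Fin n) (Fin n) F) - 1) ∧ ((u : Matrix (Fin n) (Fin n) F) - 1) ^ (n - 1) ≠ 0) ∧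
      Subgroup.closure ({u, g * u * g⁻¹, h * u * h⁻¹} : Set (Matrix.SpecialLinearGroup (Fin n) F)) = ⊤ := by
  have : NeZero n := ⟨by omega⟩
  obtain ⟨ω, hω⟩ := IsCyclic.exists_generator (α := Fˣ)
  have hgen : ∀ t : F, t ≠ 0 → ∃ k : ℕ, t = (ω : F) ^ k := fun t ht => by
    obtain ⟨k, hk⟩ := mem_powers_iff_mem_zpowers.2 (hω (Units.mk0 t ht))
    exact ⟨k, by simpa using (congrArg Units.val hk).symm⟩
  set o := ix 0 (by omega : 0 < n)
  set r := ix (n - 1) (by omega : n - 1 < n)
  set q := ix (n - 2) (by omega : n - 2 < n) with hq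
  have hoq : o ≠ q := by simp [o, q, ix]; omega
  let h : (Matrix.SpecialLinearGroup (Fin n) F) := Matrix.SpecialLinearGroup.transvection hoq ((ω : F)⁻¹ * (ω : F)⁻¹)
  refine ⟨uMat (ω : F), monMat (F := F) hn, h, ⟨⟨n, ?_⟩, ?_⟩, ?_⟩
  · ext i j
    exact (uMat_sub_one_pow hn (ω : F) ω.ne_zero n i j).1 (by omega)
  · intro h0
    have := (uMat_sub_one_pow (F := F) hn (ω : F) ω.ne_zero (n - 1) o r).2 (by simp [o, r, ix])
    exact this (by rw [h0]; rfl)
  · set H := Subgroup.closure ({uMat (ω : F), monMat (F := F) hn * uMat (ω : F) * (monMat (F := F) hn)⁻¹,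
      h * uMat (ω : F) * h⁻¹} : Set (Matrix.SpecialLinearGroup (Fin n) F))
    refine generated hn (ω : F) (ω : F)⁻¹ ω.ne_zero rfl hgen H (Subgroup.subset_closure (Or.inl rfl))
      (Subgroup.subset_closure (Or.inr (Or.inl rfl))) ?_
    refine ⟨(uMat (ω : F))⁻¹ * (h * uMat (ω : F) * h⁻¹),
      H.mul_mem (H.inv_mem (Subgroup.subset_closure (Or.inl rfl))) (Subgroup.subset_closure (Or.inr (Or.inr rfl))), ?_⟩
    set U := ((uMat (ω : F) : (Matrix.SpecialLinearGroup (Fin n) F)) : Matrix (Fin n) (Fin n) F)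
    set Z : Matrix (Fin n) (Fin n) F := vecMulVec ((ω : F)⁻¹ • ev o) (ev r)
    have hh : (h : Matrix (Fin n) (Fin n) F) = 1 + vecMulVec (((ω : F)⁻¹ * (ω : F)⁻¹) • ev o) (ev q) := by
      rw [Matrix.SpecialLinearGroup.transvection_coe, vecMulVec_smul_ev]
    have key : (h : Matrix (Fin n) (Fin n) F) * U = U * (1 + Z) * (h : Matrix (Fin n) (Fin n) F) := by
      rw [hh]
      set V : Matrix (Fin n) (Fin n) F := vecMulVec (((ω : F)⁻¹ * (ω : F)⁻¹) • ev o) (ev q)
      have e1 : (ev q : Fin n → F) ᵥ* U = ev q + (ω : F) • ev r := by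
        rw [hq, uMat_vecMul (F := F) (ω : F) (n - 2) (by omega)]
        congr 2
        · rw [dCoeff, if_pos (by simp [ix]; omega)]
        · congr 1; exact Fin.ext (by simp [r, ix]; omega)
      have e2 : U *ᵥ (ev o : Fin n → F) = ev o := uMat_mulVec_zero (F := F) (by omega) (ω : F)
      have e3 : (ev r : Fin n → F) ⬝ᵥ ev o = 0 := by simp only [o, r, ix, dot_ix]; rw [if_neg (by omega)]
      have hUZ : U * Z = Z := by rw [Matrix.mul_vecMulVec, Matrix.mulVec_smul, e2]
      have hUV : U * V = V := by rw [Matrix.mul_vecMulVec, Matrix.mulVec_smul, e2]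
      have hVU : V * U = V + Z := by
        rw [Matrix.vecMulVec_mul, e1, Matrix.vecMulVec_add, Matrix.vecMulVec_smul, ← Matrix.smul_vecMulVec, smul_smul,
          mul_comm (ω : F), inv_mul_cancel_right₀ ω.ne_zero]
      have hZV : Z * V = 0 := by
        rw [Matrix.vecMulVec_mul_vecMulVec, dotProduct_smul, e3, smul_zero, zero_smul, Matrix.vecMulVec_zero]
      simp only [Matrix.add_mul, Matrix.mul_add, Matrix.one_mul, Matrix.mul_one, hVU, hUZ, hUV, hZV]
      abel
    calc (((uMat (ω : F))⁻¹ * (h * uMat (ω : F) * h⁻¹) : (Matrix.SpecialLinearGroup (Fin n) F)) : Matrix (Fin n) (Fin n) F)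
        = (((uMat (ω : F))⁻¹ : (Matrix.SpecialLinearGroup (Fin n) F)) : Matrix (Fin n) (Fin n) F) * ((h : Matrix (Fin n) (Fin n) F) * U) *
            ((h⁻¹ : (Matrix.SpecialLinearGroup (Fin n) F)) : Matrix (Fin n) (Fin n) F) := by
          simp only [Matrix.SpecialLinearGroup.coe_mul, Matrix.mul_assoc]; rfl
      _ = ((((uMat (ω : F))⁻¹ * uMat (ω : F) : (Matrix.SpecialLinearGroup (Fin n) F))) : Matrix (Fin n) (Fin n) F) * (1 + Z) *
            (((h * h⁻¹ : (Matrix.SpecialLinearGroup (Fin n) F))) : Matrix (Fin n) (Fin n) F) := by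
          rw [key]; simp only [Matrix.SpecialLinearGroup.coe_mul, Matrix.mul_assoc]; rfl
      _ = 1 + Z := by simp

end Gens

end CfsgLib.RegUnipotent
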